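import Mathlib.GroupTheory.Transfer
import Mathlib.GroupTheory.PGroup

/-!
The transfer of an element of prime order as a product over the cosets it fixes.
-/

set_option autoImplicit false

namespace CfsgLib.InvChar.ThreeTransfer

open Subgroup MulAction

universe u v

variable {G : Type u} [Group G] [Finite G] {H : Subgroup G} {A : Type v} [CommGroup A]

theorem conj_out_mem {g : G} (q : ↥{q : G ⧸ H | g • q = q}) : (q.1.out)⁻¹ * g * q.1.out ∈ H := by
  have h : ((g * q.1.out : G) : G ⧸ H) = (q.1.out : G ⧸ H) := by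
    rw [QuotientGroup.out_eq']
    conv_rhs => rw [← q.2]
    conv_rhs => rw [← QuotientGroup.out_eq' q.1]
    rfl
  rw [mul_assoc]
  exact QuotientGroup.eq.1 h.symm

/-- For `g` of prime order the transfer is the product over the fixed cosets. -/
theorem transfer_eq_prod_fixed (φ : ↥H →* A) {p : ℕ} [Fact p.Prime] {g : G} (hg : g ^ p = 1)
    [Fintype ↥{q : G ⧸ H | g • q = q}] :
    MonoidHom.transfer φ g = ∏ q : ↥{q : G ⧸ H | g • q = q}, φ ⟨_, conj_out_mem q⟩ := by
  classical
  haveI : Fintype (Quotient (orbitRel (zpowers g) (G ⧸ H))) := Fintype.ofFinite _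
  rw [MonoidHom.transfer_eq_prod_quotient_orbitRel_zpowers_quot]
  have hper : ∀ x : G ⧸ H, Function.minimalPeriod (g • ·) x ∣ p := fun x =>
    Function.IsPeriodicPt.minimalPeriod_dvd (by
      show (g • ·)^[p] x = x
      rw [smul_iterate, hg]
      exact one_smul G x)
  have hmov : ∀ q : Quotient (orbitRel (zpowers g) (G ⧸ H)), g • q.out ≠ q.out →
      φ ⟨q.out.out⁻¹ * g ^ Function.minimalPeriod (g • ·) q.out * q.out.out,
        QuotientGroup.out_conj_pow_minimalPeriod_mem H g q.out⟩ = 1 := fun q hq => by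
    have hp : Function.minimalPeriod (g • ·) q.out = p :=
      ((Fact.out : p.Prime).eq_one_or_self_of_dvd _ (hper _)).resolve_left fun e =>
        hq (Function.minimalPeriod_eq_one_iff_isFixedPt.1 e)
    refine (congrArg φ (Subtype.ext ?_)).trans (map_one φ)
    show q.out.out⁻¹ * g ^ Function.minimalPeriod (g • ·) q.out * q.out.out = 1
    rw [hp, hg, mul_one, inv_mul_cancel]
  symm
  refine Fintype.prod_of_injective (fun q => Quotient.mk'' q.1) (fun a b h => ?_) _ _
    (fun q hq => hmov q fun hfix => hq ⟨⟨q.out, hfix⟩, q.out_eq'⟩) (fun q => ?_)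
  · obtain ⟨⟨t, ht⟩, htb⟩ := Quotient.eq''.1 h
    obtain ⟨i, rfl⟩ := mem_zpowers_iff.1 ht
    have hst : g ^ i ∈ stabilizer G b.1 := zpow_mem (show g ∈ stabilizer G b.1 from b.2) i
    exact Subtype.ext (htb.symm.trans hst)
  · have hout : (Quotient.mk'' q.1 : Quotient (orbitRel (zpowers g) (G ⧸ H))).out = q.1 := by
      obtain ⟨⟨t, ht⟩, htq⟩ := Quotient.eq''.1 (Quotient.out_eq' (Quotient.mk'' q.1 :
        Quotient (orbitRel (zpowers g) (G ⧸ H))))
      obtain ⟨i, rfl⟩ := mem_zpowers_iff.1 ht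
      have hst : g ^ i ∈ stabilizer G q.1 := zpow_mem (show g ∈ stabilizer G q.1 from q.2) i
      exact htq.symm.trans hst
    refine congrArg φ (Subtype.ext ?_)
    simp only [hout]
    rw [Function.minimalPeriod_eq_one_iff_isFixedPt.2 (show Function.IsFixedPt (g • ·) q.1 from q.2),
      pow_one]

/-- The number of fixed cosets agrees with the index modulo the prime. -/
theorem index_modEq_fixed {p : ℕ} [Fact p.Prime] {g : G} (hg : g ^ p = 1) :
    H.index ≡ Nat.card ↥{q : G ⧸ H | g • q = q} [MOD p] := by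
  have hP : IsPGroup p (zpowers g) := fun x => ⟨1, by
    obtain ⟨i, hi⟩ := mem_zpowers_iff.1 x.2
    refine Subtype.ext ?_
    rw [SubgroupClass.coe_pow, OneMemClass.coe_one, ← hi, pow_one, ← zpow_natCast, ← zpow_mul,
      mul_comm, zpow_mul, zpow_natCast, hg, one_zpow]⟩
  have h := hP.card_modEq_card_fixedPoints (G ⧸ H)
  rw [← Subgroup.index_eq_card] at h
  refine h.trans (congrArg (· % p) ?_)
  refine Nat.card_congr (Equiv.subtypeEquivRight fun q => ⟨fun hq => hq ⟨g, mem_zpowers g⟩,
    fun hq x => ?_⟩)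
  obtain ⟨i, hi⟩ := mem_zpowers_iff.1 x.2
  show (x : G) • q = q
  rw [← hi]
  exact zpow_mem (show g ∈ stabilizer G q from hq) i

/-- If all values at fixed cosets agree, the transfer is that value raised to their number. -/
theorem transfer_eq_pow_fixed (φ : ↥H →* A) {p : ℕ} [Fact p.Prime] {g : G} (hg : g ^ p = 1)
    {v : A} (h : ∀ (x : G) (hx : x⁻¹ * g * x ∈ H), φ ⟨_, hx⟩ = v) :
    MonoidHom.transfer φ g = v ^ Nat.card ↥{q : G ⧸ H | g • q = q} := by
  classical
  haveI := Fintype.ofFinite ↥{q : G ⧸ H | g • q = q}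
  rw [transfer_eq_prod_fixed φ hg, Finset.prod_congr rfl fun q _ => h _ (conj_out_mem q),
    Finset.prod_const, Finset.card_univ, Nat.card_eq_fintype_card]

end CfsgLib.InvChar.ThreeTransfer
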